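import Mathlib
import Cfsg.Agent.H181.OctMain

/-!
# S4933: the Sylow 3-subgroup of `G₂(q)`, `9 ∣ q² - 1` (helper367)

`facts` : an abelian subgroup `A` of index 3 of the Sylow 3-subgroup `S`, `|A| ≥ 81`, at most 9 elements of `A` have cube 1,
the elements of `S` outside `A` have cube 1 and commute with at most 3 elements of `A`.
-/

set_option autoImplicit false

namespace Cfsg.Agent.H367.HT.GTwo

open Cfsg.Lie QuadraticAlgebra Subgroup Cfsg.Agent.H181.OctHerm

variable {F : Type*} [Field F]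

/-- elements outside the diagonal subgroup permute the coordinates -/
theorem perm_of_not_mem {n : SU F} (hn : n ∈ SS F) (hnD : n ∉ DD F) :
    (∀ x y w : unitary (LL F), (n : U3 F) * dg x y w * (n : U3 F)⁻¹ = dg w x y) ∨
      (∀ x y w : unitary (LL F), (n : U3 F) * dg x y w * (n : U3 F)⁻¹ = dg y w x) := by
  obtain ⟨d, hd, rfl | rfl | rfl⟩ := mem_SS hn
  · exact absurd hd hnD
  · exact Or.inl (conj_c d hd)
  · exact Or.inr (conj_cc d hd)

theorem cube_of_not_mem {n : SU F} (hn : n ∈ SS F) (hnD : n ∉ DD F) : n ^ 3 = 1 := by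
  obtain ⟨d, hd, hc⟩ := mem_SS hn
  obtain ⟨x, y, w, -, -, -, hxyw, h⟩ := mem_DD.1 hd
  have h1 : (cyc : U3 F) * dg x y w = dg w x y * cyc := cyc_dg x y w
  have h2 : ∀ x y w : unitary (LL F), (cyc : U3 F) * dg x y w = dg w x y * cyc := cyc_dg
  have hprod : dg x y w * dg w x y * dg y w x = (1 : U3 F) := by
    rw [dg_mul, dg_mul, ← dg_one]
    have e1 : x * w * y = 1 := by rw [mul_right_comm]; exact hxyw
    have e2 : y * x * w = 1 := by rw [mul_comm y x]; exact hxyw
    have e3 : w * y * x = 1 := by rw [mul_comm w y, mul_assoc, mul_comm w x, ← mul_assoc, mul_comm y x]; exact hxyw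
    rw [e1, e2, e3]
  have hprod' : dg x y w * dg y w x * dg w x y = (1 : U3 F) := by
    rw [dg_mul, dg_mul, ← dg_one]
    have e1 : x * y * w = 1 := hxyw
    have e2 : y * w * x = 1 := by rw [mul_assoc, mul_comm w x, ← mul_assoc, mul_comm y x]; exact hxyw
    have e3 : w * x * y = 1 := by rw [mul_comm w x, mul_right_comm]; exact hxyw
    rw [e1, e2, e3]
  have hccc : (cyc : U3 F) * cyc * cyc = 1 := cyc_cube
  apply Subtype.ext
  rcases hc with rfl | rfl | rfl
  · exact absurd hd hnD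
  · have h3 : (((d * c0 F) ^ 3 : SU F) : U3 F) = dg x y w * cyc * (dg x y w * cyc) * (dg x y w * cyc) := by
      rw [← h, pow_succ, pow_two]; rfl
    rw [h3]
    calc dg x y w * cyc * (dg x y w * cyc) * (dg x y w * cyc)
        = dg x y w * (cyc * dg x y w) * (cyc * dg x y w) * cyc := by group
      _ = dg x y w * dg w x y * (cyc * (cyc * dg x y w)) * cyc := by rw [h2]; group
      _ = dg x y w * dg w x y * dg y w x * (cyc * cyc * cyc) := by rw [h2, ← mul_assoc cyc, h2]; group
      _ = 1 := by rw [hprod, hccc, one_mul]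
  · have h3 : (((d * (c0 F * c0 F)) ^ 3 : SU F) : U3 F) =
        dg x y w * (cyc * cyc) * (dg x y w * (cyc * cyc)) * (dg x y w * (cyc * cyc)) := by
      rw [← h, pow_succ, pow_two]; rfl
    have h4 : ∀ x y w : unitary (LL F), (cyc * cyc : U3 F) * dg x y w = dg y w x * (cyc * cyc) := by
      intro x y w
      rw [mul_assoc, h2, ← mul_assoc, h2, mul_assoc]
    rw [h3]
    calc dg x y w * (cyc * cyc) * (dg x y w * (cyc * cyc)) * (dg x y w * (cyc * cyc))
        = dg x y w * ((cyc * cyc) * dg x y w) * ((cyc * cyc) * dg x y w) * (cyc * cyc) := by group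
      _ = dg x y w * dg y w x * ((cyc * cyc) * ((cyc * cyc) * dg x y w)) * (cyc * cyc) := by rw [h4]; group
      _ = dg x y w * dg y w x * dg w x y * ((cyc * cyc * cyc) * (cyc * cyc * cyc)) := by
          rw [h4, ← mul_assoc (cyc * cyc), h4]; group
      _ = 1 := by rw [hprod', hccc, one_mul, one_mul]

theorem central_of_comm (h3 : (3 : F) ≠ 0) {n a : SU F} (hn : n ∈ SS F) (hnD : n ∉ DD F) (ha : a ∈ DD F)
    (h : n * a = a * n) : a ∈ zpowers (zz F) := by
  obtain ⟨x, y, w, -, -, -, hxyw, hx⟩ := mem_DD.1 ha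
  have h1 : (n : U3 F) * dg x y w * (n : U3 F)⁻¹ = dg x y w := by
    rw [mul_inv_eq_iff_eq_mul, ← hx]
    exact congrArg Subtype.val h
  have key : x = y ∧ y = w := by
    rcases perm_of_not_mem hn hnD with h2 | h2
    · rw [h2] at h1
      obtain ⟨e1, e2, e3⟩ := dg_inj h1
      exact ⟨e2, e3⟩
    · rw [h2] at h1
      obtain ⟨e1, e2, e3⟩ := dg_inj h1
      exact ⟨e1.symm, e2.symm⟩
  obtain ⟨rfl, rfl⟩ := key
  exact mem_zpowers_zz.2 ⟨x, cube_root h3 hxyw, hx⟩

variable [Finite F]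

theorem card_cub (h3 : (3 : F) ≠ 0) : Nat.card {x : unitary (LL F) // x * x * x = 1} ≤ 3 := by
  have hfin := finite_LL (F := F)
  have h2 : {x : unitary (LL F) | x * x * x = 1} ⊆ {1, omU, omU * omU} := by
    intro x hx
    rcases cube_root h3 hx with h | h | h
    · exact Or.inl h
    · exact Or.inr (Or.inl h)
    · exact Or.inr (Or.inr h)
  calc Nat.card {x : unitary (LL F) // x * x * x = 1} = Set.ncard {x : unitary (LL F) | x * x * x = 1} := rfl
    _ ≤ Set.ncard ({1, omU, omU * omU} : Set (unitary (LL F))) := Set.ncard_le_ncard h2 (Set.toFinite _)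
    _ ≤ 3 := by
      refine (Set.ncard_insert_le _ _).trans ?_
      have := Set.ncard_insert_le (omU : unitary (LL F)) {omU * omU}
      rw [Set.ncard_singleton] at this
      omega

theorem card_DD_cub (h3 : (3 : F) ≠ 0) : Nat.card {a : SU F // a ∈ DD F ∧ a ^ 3 = 1} ≤ 9 := by
  have hfin := finite_LL (F := F)
  have hR := card_cub h3
  have hex : ∀ a : {a : SU F // a ∈ DD F ∧ a ^ 3 = 1}, ∃ p : {x : unitary (LL F) // x * x * x = 1} ×
      {x : unitary (LL F) // x * x * x = 1}, ((a : SU F) : U3 F) = dg p.1 p.2 ((p.1 : unitary (LL F)) * (p.2 : unitary (LL F)))⁻¹ := by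
    rintro ⟨a, ha, hc⟩
    obtain ⟨x, y, w, -, -, -, hxyw, h⟩ := mem_DD.1 ha
    have h1 : dg (x * x * x) (y * y * y) (w * w * w) = dg (1 : unitary (LL F)) 1 1 := by
      rw [dg_one, ← dg_mul, ← dg_mul, ← h]
      rw [pow_succ, pow_two] at hc
      exact congrArg Subtype.val hc
    obtain ⟨e1, e2, -⟩ := dg_inj h1
    refine ⟨(⟨x, e1⟩, ⟨y, e2⟩), ?_⟩
    show ((a : SU F) : U3 F) = dg x y (x * y)⁻¹
    rw [h]
    congr 1
    exact (inv_eq_of_mul_eq_one_right hxyw).symm
  choose f hf using hex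
  have hinj : Function.Injective f := by
    intro a b hab
    apply Subtype.ext
    apply Subtype.ext
    rw [hf a, hf b, hab]
  calc _ ≤ Nat.card ({x : unitary (LL F) // x * x * x = 1} × {x : unitary (LL F) // x * x * x = 1}) :=
        Nat.card_le_card_of_injective f hinj
    _ = Nat.card {x : unitary (LL F) // x * x * x = 1} * Nat.card {x : unitary (LL F) // x * x * x = 1} := Nat.card_prod _ _
    _ ≤ 3 * 3 := Nat.mul_le_mul hR hR

/-- **The Sylow 3-subgroup of `G₂(q)`.** -/
theorem facts (h3 : (3 : F) ≠ 0) (h9 : 9 ∣ Nat.card F ^ 2 - 1) {G : Type*} [Group G] [Finite G]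
    (e : G ≃* Cfsg.Lie.G2 F) (S : Sylow 3 G) :
    ∃ A : Subgroup G, A ≤ S ∧ (∀ a ∈ A, ∀ b ∈ A, a * b = b * a) ∧ Nat.card (S : Subgroup G) = 3 * Nat.card A ∧
      81 ≤ Nat.card A ∧ Nat.card {a : A // a ^ 3 = 1} ≤ 9 ∧
      ∀ x ∈ (S : Subgroup G), x ∉ A → x ^ 3 = 1 ∧ Nat.card {a : A // x * a = a * x} ≤ 3 := by
  obtain ⟨κ, hκ, φ, hφ⟩ := exists_phi h3 e S
  obtain ⟨k, h1, h2, h4, h5, h6⟩ := cards' (F := F) h3
  have hfin := finite_LL (F := F)
  have hfSU : Finite (SU F) := inferInstance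
  set g : SU F →* G := φ.symm.toMonoidHom.comp (rho κ) with hg
  have hgi : Function.Injective g := φ.symm.injective.comp (rho_injective κ)
  have hS : (S : Subgroup G) = (SS F).map g := by
    rw [hg, ← Subgroup.map_map, ← hφ, Subgroup.map_map]
    ext x
    constructor
    · intro hx
      exact ⟨x, hx, φ.symm_apply_apply x⟩
    · rintro ⟨y, hy, rfl⟩
      have : (φ.symm.toMonoidHom.comp φ.toMonoidHom) y = y := φ.symm_apply_apply y
      rw [this]
      exact hy
  have hk : 2 ≤ k := by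
    by_contra h
    have : k = 1 := by omega
    subst this
    exact h4 h9
  refine ⟨(DD F).map g, ?_, ?_, ?_, ?_, ?_, ?_⟩
  · rw [hS]
    exact Subgroup.map_mono DD_le
  · rintro _ ⟨a, ha, rfl⟩ _ ⟨b, hb, rfl⟩
    rw [← map_mul, ← map_mul]
    congr 1
    obtain ⟨x, y, w, -, -, -, -, hb'⟩ := mem_DD.1 hb
    apply Subtype.ext
    rw [Subgroup.coe_mul, Subgroup.coe_mul, hb', ← mul_inv_eq_iff_eq_mul]
    exact conj_d a ha x y w
  · rw [hS, Subgroup.card_map_of_injective hgi, Subgroup.card_map_of_injective hgi, h6, card_DD, h5]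
  · rw [Subgroup.card_map_of_injective hgi, card_DD, h5]
    have h7 : 3 ^ 2 ≤ 3 ^ k := Nat.pow_le_pow_right (by norm_num) hk
    calc 81 = 3 ^ 2 * 3 ^ 2 := by norm_num
      _ ≤ _ := Nat.mul_le_mul h7 h7
  · have hex : ∀ a : {a : ↥((DD F).map g) // a ^ 3 = 1}, ∃ b : {b : SU F // b ∈ DD F ∧ b ^ 3 = 1}, g b = (a : ↥((DD F).map g)) := by
      rintro ⟨⟨a, b, hb, rfl⟩, hc⟩
      refine ⟨⟨b, hb, hgi ?_⟩, rfl⟩
      rw [map_pow, map_one]
      exact congrArg Subtype.val hc
    choose f hf using hex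
    have hinj : Function.Injective f := by
      intro a b hab
      apply Subtype.ext
      apply Subtype.ext
      rw [← hf a, ← hf b, hab]
    exact (Nat.card_le_card_of_injective f hinj).trans (card_DD_cub h3)
  · intro x hx hxD
    rw [hS] at hx
    obtain ⟨n, hn, rfl⟩ := hx
    have hnD : n ∉ DD F := fun h => hxD ⟨n, h, rfl⟩
    refine ⟨by rw [← map_pow, cube_of_not_mem hn hnD, map_one], ?_⟩
    have hex : ∀ a : {a : ↥((DD F).map g) // g n * a = a * g n}, ∃ b : zpowers (zz F), g b = (a : ↥((DD F).map g)) := by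
      rintro ⟨⟨a, b, hb, rfl⟩, hc⟩
      refine ⟨⟨b, central_of_comm h3 hn hnD hb (hgi ?_)⟩, rfl⟩
      rw [map_mul, map_mul]
      exact hc
    choose f hf using hex
    have hinj : Function.Injective f := by
      intro a b hab
      apply Subtype.ext
      apply Subtype.ext
      rw [← hf a, ← hf b, hab]
    refine (Nat.card_le_card_of_injective f hinj).trans ?_
    rw [card_zz]

end Cfsg.Agent.H367.HT.GTwo
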