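import Cfsg.Agent.H316.HT.Defs
import Cfsg.Agent.H488.HT.Tool
import Cfsg.Agent.H40.HT.Own
import Cfsg.Agent.H112.HT.Ind
import Cfsg.Agent.H37.HT.Fd
import Cfsg.Agent.H700.PrinExt
import Cfsg.Agent.H816.OutEmb

/-!
# S4933: the row from an invariant character of the principal block (helper367)

`row_of_inv` : the `p`-subgroups of `Out S` are cyclic, `ψ ∈ B₀(S)`, `vd p ψ = 1`, `ψ` invariant under the automorphisms that
are `p`-elements modulo `Inn S`: `Row p S`.
-/

set_option autoImplicit false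

open Subgroup

namespace Cfsg.Agent.H367.HT

open Cfsg Cfsg.Agent.H316.HT Cfsg.Agent.H37.HT

universe u v

section

variable {A : Type u} [Group A] {p : ℕ}

/-- `N P / N` is cyclic when the `p`-subgroups of `Out N` are -/
theorem cyc_quot (N : Subgroup A) [N.Normal] (hC : centralizer (N : Set A) = ⊥)
    (hcyc : ∀ Q : Subgroup (Cfsg.Out N), IsPGroup p Q → IsCyclic Q) (P : Sylow p A) {H : Subgroup A}
    (hH : H = N ⊔ (P : Subgroup A)) : IsCyclic (H ⧸ N.subgroupOf H) := by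
  obtain ⟨φ, hφ⟩ := H816.OutEmb.exists_hom N (by rw [hC]; exact bot_le)
  have h1 : H.map φ = (P : Subgroup A).map φ := by
    rw [hH, Subgroup.map_sup]
    have h2 : N.map φ = ⊥ := by
      rw [Subgroup.map_eq_bot_iff, hφ]
    rw [h2, bot_sup_eq]
  have h3 : IsCyclic (H.map φ) := by
    refine hcyc _ ?_
    rw [h1]
    exact P.isPGroup'.map φ
  have h4 : (φ.comp H.subtype).ker = N.subgroupOf H := by
    ext x
    rw [MonoidHom.mem_ker, MonoidHom.comp_apply, ← MonoidHom.mem_ker, hφ, Subgroup.mem_subgroupOf]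
    rfl
  have h5 : (φ.comp H.subtype).range = H.map φ := by
    rw [MonoidHom.range_eq_map, ← Subgroup.map_map, ← MonoidHom.range_eq_map, Subgroup.range_subtype]
  have e1 : (H ⧸ N.subgroupOf H) ≃* (H.map φ) :=
    ((QuotientGroup.quotientMulEquivOfEq h4.symm).trans (QuotientGroup.quotientKerEquivRange _)).trans
      (MulEquiv.subgroupCongr h5)
  exact isCyclic_of_surjective e1.symm e1.symm.surjective

/-- the elements of `N P` are `p`-elements modulo `N` -/
theorem pow_mem_of (N : Subgroup A) [N.Normal] (P : Sylow p A) {g : A} (hg : g ∈ N ⊔ (P : Subgroup A)) :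
    ∃ k : ℕ, g ^ p ^ k ∈ N := by
  have h1 : (QuotientGroup.mk' N g) ∈ (P : Subgroup A).map (QuotientGroup.mk' N) := by
    have h2 : QuotientGroup.mk' N g ∈ (N ⊔ (P : Subgroup A)).map (QuotientGroup.mk' N) := Subgroup.mem_map_of_mem _ hg
    rw [Subgroup.map_sup] at h2
    have h3 : N.map (QuotientGroup.mk' N) = ⊥ := by
      rw [Subgroup.map_eq_bot_iff, QuotientGroup.ker_mk']
    rwa [h3, bot_sup_eq] at h2
  obtain ⟨k, hk⟩ := (P.isPGroup'.map (QuotientGroup.mk' N)) ⟨_, h1⟩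
  refine ⟨k, ?_⟩
  have h4 := congrArg Subtype.val hk
  rw [Subgroup.coe_pow, Subgroup.coe_one, ← map_pow] at h4
  exact (QuotientGroup.eq_one_iff _).1 h4

end

/-- **The row from an invariant character.** -/
theorem row_of_inv {p : ℕ} [hp : Fact p.Prime] {S : Type v} [Group S] [Finite S]
    (hcyc : ∀ Q : Subgroup (Cfsg.Out S), IsPGroup p Q → IsCyclic Q)
    (h : ∀ M : Ideal AlgInt, IsPModular p M → ∃ ψ : IrrCharacter S, ψ ∈ principalBlock M S ∧
      vd p (ψ : S → ℂ) = 1 ∧ ∀ t : MulAut S, PInn p t → ∀ x : S, (ψ : S → ℂ) (t x) = (ψ : S → ℂ) x) : Row p S := by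
  intro A _ _ N _ ⟨e⟩ hC M hM P a ha _
  classical
  obtain ⟨ψ, hψ, hv, hinv⟩ := h M hM
  obtain ⟨f⟩ := H816.OutEmb.out_congr e
  have hcyc' : ∀ Q : Subgroup (Cfsg.Out N), IsPGroup p Q → IsCyclic Q := by
    intro Q hQ
    have h1 := hcyc (Q.map f.toMonoidHom) (hQ.map _)
    have e1 : Q ≃* Q.map f.toMonoidHom := Q.equivMapOfInjective f.toMonoidHom f.injective
    exact isCyclic_of_surjective e1.symm e1.symm.surjective
  set H : Subgroup A := N ⊔ (P : Subgroup A) with hH
  have hNH : N ≤ H := le_sup_left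
  have hq : IsCyclic (H ⧸ N.subgroupOf H) := cyc_quot N hC hcyc' P hH
  set θ : IrrCharacter N := H700.PrinExt.mapIrr e ψ with hθ
  have hθB : θ ∈ principalBlock M N := H700.PrinExt.mapIrr_mem e hψ
  set i : N.subgroupOf H ≃* N := Subgroup.subgroupOfEquivOfLe hNH with hi
  set θ' : IrrCharacter (N.subgroupOf H) := H700.PrinExt.mapIrr i θ with hθ'
  have hθ'B : θ' ∈ principalBlock M (N.subgroupOf H) := H700.PrinExt.mapIrr_mem i hθB
  have hval : ∀ x : N.subgroupOf H, (θ' : N.subgroupOf H → ℂ) x = (ψ : S → ℂ) (e (i x)) := fun x => rfl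
  obtain ⟨ξ, hξ, hres, hdeg⟩ := Cfsg.Agent.H112.HT.lift_mem hM (N.subgroupOf H) hq θ' hθ'B (by
    intro g t
    rw [hval, hval]
    -- the automorphism of `S`
    set c : MulAut S := MulAut.congr e (MulAut.conjNormal (g : A)) with hc
    have h1 : e (i (MulAut.conjNormal g t)) = c (e (i t)) := by
      rw [hc]
      simp only [MulAut.congr, MulEquiv.coe_mk, Equiv.coe_fn_mk, MulEquiv.trans_apply, MulEquiv.symm_apply_apply]
      congr 1
    rw [h1]
    refine hinv c ?_ _
    obtain ⟨k, hk⟩ := pow_mem_of N P g.2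
    refine ⟨k, ?_⟩
    refine ⟨e ⟨_, hk⟩, ?_⟩
    rw [hc, ← map_pow, ← map_pow]
    ext y
    show e ⟨_, hk⟩ * y * (e ⟨_, hk⟩)⁻¹ = e (MulAut.conjNormal ((g : A) ^ p ^ k) (e.symm y))
    have h2 : MulAut.conjNormal ((g : A) ^ p ^ k) (e.symm y) = ⟨_, hk⟩ * e.symm y * (⟨_, hk⟩ : N)⁻¹ :=
      Subtype.ext (by rw [MulAut.conjNormal_apply]; rfl)
    rw [h2, map_mul, map_mul, map_inv, MulEquiv.apply_symm_apply])
  have hp1 : p ∣ charDegree (ψ : S → ℂ) := by
    by_contra hcon
    have h2 := Nat.factorization_eq_zero_of_not_dvd hcon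
    unfold vd at hv
    omega
  have hdeg' : charDegree (θ' : N.subgroupOf H → ℂ) = charDegree (ψ : S → ℂ) := by
    rw [hθ', H700.PrinExt.charDegree_mapIrr, hθ, H700.PrinExt.charDegree_mapIrr]
  refine Cfsg.Agent.H40.HT.goodOn_of' hM N P hH ξ θ hθB hNH ?_ ?_ ?_ ?_
  · intro _
    have h2 : (fun n : N => (ξ : H → ℂ) ⟨n, hNH n.2⟩) = (θ : N → ℂ) := by
      funext n
      have h3 := hres (i.symm n)
      rw [hval, MulEquiv.apply_symm_apply] at h3
      exact h3
    rw [h2, Characters.Core.classInner_irr_self θ.2]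
    exact one_ne_zero
  · unfold vd
    rw [hdeg, hdeg']
    unfold vd at hv
    omega
  · rw [hθ, H700.PrinExt.charDegree_mapIrr]
    exact hp1
  · intro h2
    have h3 : charDegree (θ : N → ℂ) = 1 := by
      have h4 := Blocks.Basic.irr_one_eq_charDegree θ.2
      rw [show (θ : N → ℂ) 1 = 1 from congrFun h2 1] at h4
      exact_mod_cast h4.symm
    rw [hθ, H700.PrinExt.charDegree_mapIrr] at h3
    rw [h3] at hp1
    exact hp.out.one_lt.ne' (Nat.dvd_one.1 hp1)

end Cfsg.Agent.H367.HT
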